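import Cfsg.Agent.Lib.Goldschmidt.Sys.Basic
import Cfsg.Agent.Lib.Walter.BlockSysG

/-!
# The pairs: equivariance under the normaliser of `A`
-/

set_option autoImplicit false
set_option linter.style.haveILetI false
set_option linter.unusedSectionVars false

namespace Cfsg.Agent.Goldschmidt

open Subgroup Cfsg.Agent Cfsg.Agent.Fusion
open scoped commutatorElement

universe u

section Local

variable {Y Z : Type u} [Group Y] [Group Z] (e : Y ≃* Z) (B L : Subgroup Y)

theorem map_centralizer_equiv (S : Subgroup Y) :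
    (centralizer (S : Set Y)).map e.toMonoidHom = centralizer ((S.map e.toMonoidHom : Subgroup Z) : Set Z) := by
  ext z
  rw [mem_map_equiv, mem_centralizer_iff, mem_centralizer_iff]
  constructor
  · rintro h _ ⟨s, hs, rfl⟩
    have := congrArg e (h s hs)
    simpa using this
  · intro h s hs
    have := congrArg e.symm (h (e s) ⟨s, hs, rfl⟩)
    simpa using this

theorem map_rPart : (rPart B L).map e.toMonoidHom = rPart (B.map e.toMonoidHom) (L.map e.toMonoidHom) := by
  rw [rPart, rPart, map_inf _ _ _ e.injective, map_centralizer_equiv]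

theorem map_tPart : (tPart B L).map e.toMonoidHom = tPart (B.map e.toMonoidHom) (L.map e.toMonoidHom) := by
  rw [tPart, tPart, map_commutator, map_inf _ _ _ e.injective, map_inf _ _ _ e.injective,
    map_equiv_normalizer_eq, map_inf _ _ _ e.injective]

variable {B L}

theorem Moved.map (h : Moved B L) : Moved (B.map e.toMonoidHom) (L.map e.toMonoidHom) :=
  ⟨Walter.component_map e h.1, fun hle => h.2 fun b hb => by
    have := hle (mem_map_of_mem e.toMonoidHom hb)
    rw [← map_centralizer_equiv] at this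
    obtain ⟨c, hc, he⟩ := this
    exact e.injective he ▸ hc⟩

end Local

variable {G : Type u} [Group G] [Finite G] {A : Subgroup G}

/-- Conjugation between the centralisers. -/
def centEquiv (g a : G) : ↥(centralizer ({a} : Set G)) ≃* ↥(centralizer ({g * a * g⁻¹} : Set G)) where
  toFun x := ⟨g * x * g⁻¹, mem_centralizer_singleton_iff.2 (by
    have h := mem_centralizer_singleton_iff.1 x.2
    calc g * (x : G) * g⁻¹ * (g * a * g⁻¹) = g * ((x : G) * a) * g⁻¹ := by group
      _ = _ := by rw [h]; group)⟩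
  invFun y := ⟨g⁻¹ * y * g, mem_centralizer_singleton_iff.2 (by
    have h := mem_centralizer_singleton_iff.1 y.2
    calc g⁻¹ * (y : G) * g * a = g⁻¹ * ((y : G) * (g * a * g⁻¹)) * g := by group
      _ = _ := by rw [h]; group)⟩
  left_inv x := Subtype.ext (by simp [mul_assoc])
  right_inv y := Subtype.ext (by simp [mul_assoc])
  map_mul' x y := Subtype.ext (by simp [mul_assoc])

/-- Conjugation between the centralisers modulo their cores. -/
noncomputable def cqEquiv (g a : G) : Cq a ≃* Cq (g * a * g⁻¹) :=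
  QuotientGroup.congr _ _ (centEquiv g a) (map_pPrimeCore_equiv (centEquiv g a))

theorem cqEquiv_qq (g a : G) (x : ↥(centralizer ({a} : Set G))) :
    cqEquiv g a (qq a x) = qq (g * a * g⁻¹) (centEquiv g a x) := rfl

theorem conj_mem_of_norm {g x : G} (hg : g ∈ normalizer (A : Set G)) (hx : x ∈ A) : g * x * g⁻¹ ∈ A :=
  (mem_normalizer_iff.1 hg x).1 hx

theorem At.conj {a : G} (c : At A a) {g : G} (hg : g ∈ normalizer (A : Set G)) : At A (g * a * g⁻¹) :=
  ⟨c.hyp, conj_mem_of_norm hg c.mem, fun e => c.ne (conj_eq_one_iff.1 e)⟩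

theorem map_img {a g : G} (c : At A a) (hg : g ∈ normalizer (A : Set G)) :
    (img a A).map (cqEquiv g a).toMonoidHom = img (g * a * g⁻¹) A := by
  refine le_antisymm ?_ fun u hu => ?_
  · rintro _ ⟨_, ⟨x, hx, rfl⟩, rfl⟩
    exact ⟨centEquiv g a x, conj_mem_of_norm hg hx, (cqEquiv_qq g a x).symm⟩
  · obtain ⟨x, hx, rfl⟩ := (c.conj hg).mem_img hu
    refine ⟨qq a ((centEquiv g a).symm ⟨x, (c.conj hg).le_cent hx⟩), mem_map_of_mem _ ?_, ?_⟩
    · show g⁻¹ * x * g ∈ A
      have := conj_mem_of_norm (inv_mem hg) hx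
      rwa [inv_inv] at this
    · rw [MulEquiv.coe_toMonoidHom, cqEquiv_qq, MulEquiv.apply_symm_apply]

theorem map_pull_conj {a g : G} (hg : g ∈ normalizer (A : Set G)) (U : Subgroup (Cq a)) :
    (pull a A U).map (MulAut.conj g).toMonoidHom = pull (g * a * g⁻¹) A (U.map (cqEquiv g a).toMonoidHom) := by
  ext y
  constructor
  · rintro ⟨x, hx, rfl⟩
    obtain ⟨hxA, hxC, hxU⟩ := mem_pull.1 hx
    exact mem_pull.2 ⟨conj_mem_of_norm hg hxA, (centEquiv g a ⟨x, hxC⟩).2, qq a ⟨x, hxC⟩, hxU, rfl⟩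
  · intro hy
    obtain ⟨hyA, hyC, u, hu, e⟩ := mem_pull.1 hy
    refine ⟨g⁻¹ * y * g, mem_pull.2 ⟨?_, ((centEquiv g a).symm ⟨y, hyC⟩).2, ?_⟩, by simp [mul_assoc]⟩
    · have := conj_mem_of_norm (inv_mem hg) hyA
      rwa [inv_inv] at this
    · show qq a ((centEquiv g a).symm ⟨y, hyC⟩) ∈ U
      rwa [show qq a ((centEquiv g a).symm ⟨y, hyC⟩) = u from (cqEquiv g a).injective (by
        rw [cqEquiv_qq, MulEquiv.apply_symm_apply]; exact e.symm)]

/-- The pairs are permuted. -/
theorem Mem.conj (h : Hyp G A) {a : G} {T R : Subgroup G} (hM : Mem A a T R) {g : G}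
    (hg : g ∈ normalizer (A : Set G)) :
    Mem A (g * a * g⁻¹) (T.map (MulAut.conj g).toMonoidHom) (R.map (MulAut.conj g).toMonoidHom) := by
  obtain ⟨ha, ha1, J, hJ, rfl, rfl⟩ := hM
  have c : At A a := ⟨h, ha, ha1⟩
  refine ⟨(c.conj hg).mem, (c.conj hg).ne, J.map (cqEquiv g a).toMonoidHom, ?_, ?_, ?_⟩
  · rw [← map_img c hg]; exact hJ.map _
  · rw [map_pull_conj hg, map_tPart, map_img c hg]
  · rw [map_pull_conj hg, map_rPart, map_img c hg]

end Cfsg.Agent.Goldschmidt
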