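import Cfsg.Agent.Lib.Goldschmidt.NoComp
import Cfsg.Agent.Lib.Fusion.SchreierBalanceApply
import Cfsg.Agent.Lib.Fusion.Cores
import Cfsg.Agent.Lib.Solv.Component

/-!
# The pairs: generalities

The group `A` and its image in a centraliser modulo the core; what holds for all moved components, good or bad.
-/

set_option autoImplicit false
set_option linter.style.haveILetI false
set_option linter.unusedSectionVars false

namespace Cfsg.Agent.Goldschmidt

open Subgroup Cfsg.Agent Cfsg.Agent.Fusion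
open Cfsg.Agent.Local.SCA (SC comm_of_mem le_centralizer_of_mem elemAb_map elemAb_subgroupOf)
open scoped commutatorElement

universe u

section Quot

variable {G : Type u} [Group G] [Finite G] {A : Subgroup G}

/-- The map to the centraliser modulo its core. -/
abbrev qq (a : G) : ↥(centralizer ({a} : Set G)) →* Cq a :=
  QuotientGroup.mk' (Cfsg.oddCore ↥(centralizer ({a} : Set G)))

theorem qq_surjective (a : G) : Function.Surjective (qq a) := QuotientGroup.mk'_surjective _

theorem qq_eq_one {a : G} (x : ↥(centralizer ({a} : Set G))) :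
    qq a x = 1 ↔ x ∈ Cfsg.oddCore ↥(centralizer ({a} : Set G)) := QuotientGroup.eq_one_iff x

theorem mem_pull {a : G} {U : Subgroup (Cq a)} {x : G} :
    x ∈ pull a A U ↔ x ∈ A ∧ ∃ hx : x ∈ centralizer ({a} : Set G), qq a ⟨x, hx⟩ ∈ U := by
  constructor
  · rintro ⟨h1, y, hy, rfl⟩
    exact ⟨h1, y.2, hy⟩
  · rintro ⟨h1, hx, h2⟩
    exact ⟨h1, ⟨x, hx⟩, h2, rfl⟩

theorem pull_le {a : G} (U : Subgroup (Cq a)) : pull a A U ≤ A := inf_le_left

theorem pull_mono {a : G} {U V : Subgroup (Cq a)} (h : U ≤ V) : pull a A U ≤ pull a A V := fun x hx => by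
  obtain ⟨h1, h2, h3⟩ := mem_pull.1 hx
  exact mem_pull.2 ⟨h1, h2, h h3⟩

/-- An element of `A`, in the setting of the induction. -/
structure At (A : Subgroup G) (a : G) : Prop where
  hyp : Hyp G A
  mem : a ∈ A
  ne : a ≠ 1

namespace At

variable {a : G} (c : At A a)
include c

theorem le_cent : A ≤ centralizer ({a} : Set G) := le_centralizer_of_mem c.hyp.elem c.mem

theorem qq_mem_img {x : G} (hx : x ∈ A) : qq a ⟨x, c.le_cent hx⟩ ∈ img a A := ⟨⟨x, c.le_cent hx⟩, hx, rfl⟩

theorem mem_img {u : Cq a} (hu : u ∈ img a A) : ∃ x, ∃ hx : x ∈ A, qq a ⟨x, c.le_cent hx⟩ = u := by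
  obtain ⟨x, hx, rfl⟩ := hu
  exact ⟨x, hx, rfl⟩

theorem qq_inj {x y : G} (hx : x ∈ A) (hy : y ∈ A)
    (e : qq a ⟨x, c.le_cent hx⟩ = qq a ⟨y, c.le_cent hy⟩) : x = y := by
  haveI : Fact (Nat.Prime 2) := ⟨Nat.prime_two⟩
  have h1 := QuotientGroup.eq.1 e
  have h2 : ((⟨x, c.le_cent hx⟩ : ↥(centralizer ({a} : Set G)))⁻¹ * ⟨y, c.le_cent hy⟩) ∈
      Cfsg.oddCore ↥(centralizer ({a} : Set G)) ⊓ A.subgroupOf (centralizer ({a} : Set G)) :=
    Subgroup.mem_inf.2 ⟨h1, mul_mem (inv_mem (show (⟨x, c.le_cent hx⟩ : ↥(centralizer ({a} : Set G))) ∈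
      A.subgroupOf (centralizer ({a} : Set G)) from hx)) hy⟩
  have h3 : Cfsg.oddCore ↥(centralizer ({a} : Set G)) ⊓ A.subgroupOf (centralizer ({a} : Set G)) = ⊥ :=
    coprime_inf_pGroup (Fusion.card_pPrimeCore_coprime 2 _)
      (c.hyp.sc.isPGroup.comap_of_injective _ (Subgroup.subtype_injective _))
  rw [h3, Subgroup.mem_bot, inv_mul_eq_one] at h2
  exact congrArg Subtype.val h2

theorem localHyp : LocalHyp (Cq a) (img a A) :=
  ⟨pPrimeCore_quotient_eq_bot, elemAb_map (elemAb_subgroupOf c.hyp.elem _) _,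
    (c.hyp.sc.subgroupOf c.le_cent).map _, c.hyp.below_quot c.ne⟩

theorem concl (hL : LocalStatement.{u}) : LocalConcl (Cq a) (img a A) := hL _ _ c.localHyp

/-- Pulling back loses nothing. -/
theorem exists_pull {U : Subgroup (Cq a)} {u : Cq a} (hu : u ∈ U) (hB : u ∈ img a A) :
    ∃ x, ∃ hx : x ∈ A, x ∈ pull a A U ∧ qq a ⟨x, c.le_cent hx⟩ = u := by
  obtain ⟨x, hx, rfl⟩ := c.mem_img hB
  exact ⟨x, hx, mem_pull.2 ⟨hx, c.le_cent hx, hu⟩, rfl⟩

theorem map_pull {U : Subgroup (Cq a)} (hU : U ≤ img a A) :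
    ((pull a A U).subgroupOf (centralizer ({a} : Set G))).map (qq a) = U := by
  refine le_antisymm ?_ fun u hu => ?_
  · rintro _ ⟨x, hx, rfl⟩
    exact (mem_pull.1 hx).2.choose_spec
  · obtain ⟨x, hx, hxU, rfl⟩ := c.exists_pull hu (hU hu)
    exact mem_map_of_mem _ hxU

theorem pull_sup {U V : Subgroup (Cq a)} (hU : U ≤ img a A) (hV : V ≤ img a A) {x : G}
    (hx : x ∈ pull a A (U ⊔ V)) : ∃ y ∈ pull a A U, ∃ z ∈ pull a A V, x = y * z := by
  obtain ⟨hxA, hxC, hxU⟩ := mem_pull.1 hx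
  have hcm : V ≤ normalizer (U : Set (Cq a)) := fun v hv => mem_normalizer_fintype fun u hu => by
    rwa [show v * u * v⁻¹ = u from mul_inv_eq_iff_eq_mul.2 (comm_of_mem c.localHyp.elem (hV hv) (hU hu))]
  rw [← SetLike.mem_coe, coe_mul_of_right_le_normalizer_left _ _ hcm] at hxU
  obtain ⟨u, hu, v, hv, e⟩ := hxU
  obtain ⟨y, hy, hyU, rfl⟩ := c.exists_pull hu (hU hu)
  obtain ⟨z, hz, hzV, rfl⟩ := c.exists_pull hv (hV hv)
  exact ⟨y, hyU, z, hzV, c.qq_inj hxA (mul_mem hy hz) (e.symm.trans (map_mul _ _ _).symm)⟩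

end At

end Quot

section Local

variable {Y : Type u} [Group Y] [Finite Y] {B L : Subgroup Y}

theorem rPart_le : rPart B L ≤ B := inf_le_left

/-- Every moved component has `B = (B ∩ L) R`. -/
theorem LocalConcl.span (h : LocalConcl Y B) (hm : Moved B L) : B = (B ⊓ L) ⊔ rPart B L := by
  by_cases e : tPart B L ⊓ rPart B L = ⊥
  · obtain p := h.pair L hm e
    exact le_antisymm (p.split.le.trans (sup_le_sup_right p.le _)) (sup_le inf_le_left rPart_le)
  · exact (h.bad L hm e).span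

theorem LocalConcl.normed (h : LocalConcl Y B) (hm : Moved B L) : B ≤ normalizer (L : Set Y) := by
  by_cases e : tPart B L ⊓ rPart B L = ⊥
  · exact (h.pair L hm e).normed
  · exact (h.bad L hm e).normed

theorem LocalConcl.inf_not_le (h : LocalConcl Y B) (hm : Moved B L) : ¬ B ⊓ L ≤ rPart B L := fun hle =>
  hm.2 ((h.span hm).le.trans (sup_le (hle.trans inf_le_right) inf_le_right))

theorem Moved.commute {L' : Subgroup Y} (hm : Moved B L) (hm' : Moved B L') (hne : L ≠ L') :
    L' ≤ centralizer (L : Set Y) :=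
  commutator_eq_bot_iff_le_centralizer.1 (Solv.components_commute hm'.1 hm.1 hne.symm)

/-- Different moved components are orthogonal. -/
theorem Moved.inf_le_rPart {L' : Subgroup Y} (hm : Moved B L) (hm' : Moved B L') (hne : L ≠ L') :
    B ⊓ L' ≤ rPart B L :=
  le_inf inf_le_left (inf_le_right.trans (hm.commute hm' hne))

theorem movedLayer_le (hm : Moved B L) : movedLayer B ≤ L ⊔ centralizer (L : Set Y) :=
  sSup_le fun L' hL' => by
    by_cases e : L = L'
    · exact e ▸ le_sup_left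
    · exact (hm.commute hL' e).trans le_sup_right

theorem movedLayer_le_normalizer (hm : Moved B L) : movedLayer B ≤ normalizer (L : Set Y) :=
  (movedLayer_le hm).trans (sup_le le_normalizer (centralizer_le_normalizer (L : Set Y)))

theorem LocalConcl.movedLayer_normal (h : LocalConcl Y B) : (movedLayer B).Normal :=
  Fusion.normal_iff_cj.2 fun g => le_antisymm (by
    rw [movedLayer, Fusion.cj, sSup_eq_iSup, Subgroup.map_iSup]
    refine iSup_le fun L => ?_
    rw [Subgroup.map_iSup]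
    exact iSup_le fun hL => le_iSup₂_of_le (L.map (MulAut.conj g).toMonoidHom) (h.perm L hL g) le_rfl) (by
    rw [movedLayer, sSup_eq_iSup]
    refine iSup₂_le fun L hL => ?_
    refine le_trans ?_ (Subgroup.map_mono (le_iSup₂_of_le (L.map (MulAut.conj g⁻¹).toMonoidHom) (h.perm L hL g⁻¹) le_rfl))
    intro x hx
    exact ⟨g⁻¹ * x * g, ⟨x, hx, by simp⟩, by simp [mul_assoc]⟩)

end Local

end Cfsg.Agent.Goldschmidt
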