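import Cfsg.Agent.Lib.Goldschmidt.Sys.Main
import Cfsg.Agent.Lib.Goldschmidt.Local.Main

/-!
# The pairs obey their axioms
-/

set_option autoImplicit false

namespace Cfsg.Agent.Goldschmidt

universe u

theorem sysStatement : SysStatement.{u} := sys_of_local localStatement

end Cfsg.Agent.Goldschmidt
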