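import Cfsg.Agent.Lib.Goldschmidt.Sys.Basic
import Cfsg.Agent.Lib.Solv.CoreSepFunctor
import Cfsg.Agent.Lib.Walter.CentralizerShape
import Cfsg.Agent.Lib.Bender.AbelianCases

/-!
# The perfect lift of a moved component

The preimage centralised by `R` has a perfect normal subgroup over the component; it is generated by conjugates of
elements of `A`, so modulo the core of any `C(r)`, `r ∈ R#`, it lies in the moved components, and each of these that it
does not centralise has its centralised part inside `R`.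
-/

set_option autoImplicit false
set_option linter.style.haveILetI false
set_option linter.unusedSectionVars false

namespace Cfsg.Agent.Goldschmidt

open Subgroup Cfsg.Agent Cfsg.Agent.Fusion
open Cfsg.Agent.Local.SCA (comm_of_mem)
open scoped commutatorElement Pointwise

universe u

variable {G : Type u} [Group G] [Finite G] {A : Subgroup G}

/-- A perfect group that an odd order subgroup covers is trivial. -/
theorem perfect_eq_top_of_odd {P : Subgroup G} (hP : ⁅P, P⁆ = P) {N O : Subgroup G} (hN : N ≤ P)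
    (hn : P ≤ normalizer (N : Set G)) (hO : Odd (Nat.card O)) (hcov : ∀ p ∈ P, ∃ n ∈ N, n * p ∈ O) : N = P := by
  haveI : (N.subgroupOf P).Normal := (normal_subgroupOf_iff_le_normalizer hN).2 hn
  set q := QuotientGroup.mk' (N.subgroupOf P) with hq
  have htop : (O.subgroupOf P).map q = ⊤ := eq_top_iff.2 fun u _ => by
    obtain ⟨p, rfl⟩ := QuotientGroup.mk'_surjective _ u
    obtain ⟨n, hn', ho⟩ := hcov p p.2
    refine ⟨⟨n * p, mul_mem (hN hn') p.2⟩, ho, ?_⟩
    rw [show (⟨n * p, mul_mem (hN hn') p.2⟩ : P) = ⟨n, hN hn'⟩ * p from rfl, map_mul,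
      show q ⟨n, hN hn'⟩ = 1 from (QuotientGroup.eq_one_iff _).2 (mem_subgroupOf.2 hn'), one_mul]
  have hodd : Odd (Nat.card (P ⧸ N.subgroupOf P)) := by
    rw [← Subgroup.card_top (G := P ⧸ N.subgroupOf P), ← htop]
    refine hO.of_dvd_nat ((Subgroup.card_map_dvd _ _).trans ?_)
    exact Subgroup.card_comap_dvd_of_injective _ _ P.subtype_injective
  haveI : Group.IsSolvable (P ⧸ N.subgroupOf P) := Bender.AbelianSolvable.odd_solvable' hodd
  have hperf : ⁅(⊤ : Subgroup (P ⧸ N.subgroupOf P)), (⊤ : Subgroup (P ⧸ N.subgroupOf P))⁆ = ⊤ := by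
    have h1 : ⁅(⊤ : Subgroup P), (⊤ : Subgroup P)⁆ = ⊤ := by
      refine Subgroup.map_injective P.subtype_injective ?_
      rw [map_commutator, ← MonoidHom.range_eq_map, Subgroup.range_subtype, hP]
    rw [← Subgroup.map_top_of_surjective q (QuotientGroup.mk'_surjective _), ← map_commutator, h1]
  refine le_antisymm hN fun p hp => ?_
  have h2 : q ⟨p, hp⟩ ∈ (⊥ : Subgroup (P ⧸ N.subgroupOf P)) := (Walter.perfect_eq_bot hperf).le (mem_top _)
  exact mem_subgroupOf.1 ((QuotientGroup.eq_one_iff _).1 (mem_bot.1 h2))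

theorem cj_commutator' {Y : Type*} [Group Y] (H K : Subgroup Y) (k : Y) :
    cj ⁅H, K⁆ k = ⁅cj H k, cj K k⁆ := map_commutator _ _ _

/-- The part of `A` centralising a component. -/
abbrev RG (A : Subgroup G) (a : G) (L : Subgroup (Cq a)) : Subgroup G := pull a A (rPart (img a A) L)

/-- The part of `A` inside a component. -/
abbrev EG (A : Subgroup G) (a : G) (L : Subgroup (Cq a)) : Subgroup G := pull a A (img a A ⊓ L)

/-- The perfect lift. -/
structure PLift (A : Subgroup G) (a : G) (L : Subgroup (Cq a)) (P : Subgroup G) : Prop where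
  le : P ≤ centralizer ({a} : Set G)
  perfect : ⁅P, P⁆ = P
  cent : ∀ r ∈ RG A a L, ∀ p ∈ P, r * p = p * r
  map : (P.subgroupOf (centralizer ({a} : Set G))).map (qq a) = L
  inf_le : EG A a L ≤ P
  minimal : ∀ N, N ≤ P → P ≤ normalizer (N : Set G) →
    (N.subgroupOf (centralizer ({a} : Set G))).map (qq a) = L → N = P
  lift : ∀ y ∈ L, y ∈ normalizer (img a A : Set (Cq a)) →
    ∃ x, ∃ hx : x ∈ P, x ∈ normalizer (A : Set G) ∧ qq a ⟨x, le hx⟩ = y

theorem exists_pLift (hL : LocalStatement.{u}) {a : G} (c : At A a) {L : Subgroup (Cq a)}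
    (hm : Moved (img a A) L) : ∃ P, PLift A a L P := by
  classical
  haveI : Fact (Nat.Prime 2) := ⟨Nat.prime_two⟩
  set C := centralizer ({a} : Set G) with hC
  set B := img a A with hB
  set R := (RG A a L).subgroupOf C with hR
  have hR2 : IsPGroup 2 R := (c.hyp.sc.isPGroup.to_le (pull_le _)).comap_of_injective _ (Subgroup.subtype_injective _)
  set K : Subgroup C := L.comap (qq a) ⊓ centralizer (R : Set C) with hK
  have hKmap : K.map (qq a) = L := by
    refine le_antisymm ((map_mono inf_le_left).trans (map_comap_le _ _)) fun v hv => ?_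
    obtain ⟨n, hn, e⟩ := Solv.CoreSep.lift_centralizer hR2 (v := v) fun t ht => by
      have h1 : qq a t ∈ rPart B L := by
        obtain ⟨-, hx, h⟩ := mem_pull.1 (show (t : G) ∈ RG A a L from ht)
        exact h
      exact (mem_centralizer_iff.1 (Subgroup.mem_inf.1 h1).2 v hv).symm
    exact ⟨n, Subgroup.mem_inf.2 ⟨by rw [mem_comap]; exact e.symm ▸ hv, hn⟩, e⟩
  obtain ⟨P, ⟨hPK, hPn, hPmap⟩, hmin⟩ := Set.exists_min_image
    {N : Subgroup C | N ≤ K ∧ K ≤ normalizer (N : Set C) ∧ N.map (qq a) = L} (fun N => Nat.card N) (Set.toFinite _)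
    ⟨K, le_rfl, le_normalizer, hKmap⟩
  have hLL : ⁅L, L⁆ = L := Solv.qs_self_commutator hm.1.2
  have hmem : ∀ N₁ N₂ : Subgroup C, N₁ ≤ K → N₂ ≤ K → K ≤ normalizer (N₁ : Set C) → K ≤ normalizer (N₂ : Set C) →
      N₁.map (qq a) = L → N₂.map (qq a) = L →
      ⁅N₁, N₂⁆ ≤ K ∧ K ≤ normalizer ((⁅N₁, N₂⁆ : Subgroup C) : Set C) ∧ ⁅N₁, N₂⁆.map (qq a) = L := by
    intro N₁ N₂ h1 h2 n1 n2 m1 m2
    refine ⟨commutator_le.2 fun x hx y hy => ?_, fun k hk => mem_normalizer_of_cj_le ?_, ?_⟩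
    · rw [commutatorElement_def]
      exact mul_mem (mul_mem (mul_mem (h1 hx) (h2 hy)) (inv_mem (h1 hx))) (inv_mem (h2 hy))
    · rw [cj_commutator', cj_eq_self (n1 hk), cj_eq_self (n2 hk)]
    · rw [map_commutator, m1, m2, hLL]
  have hPP : ⁅P, P⁆ = P := by
    refine eq_of_le_of_card_ge ?_ (hmin _ (hmem P P hPK hPK hPn hPn hPmap hPmap))
    exact commutator_le.2 fun x hx y hy => mul_mem (mul_mem (mul_mem hx hy) (inv_mem hx)) (inv_mem hy)
  have huniq : ∀ N : Subgroup C, N ≤ K → K ≤ normalizer (N : Set C) → N.map (qq a) = L → P ≤ N := by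
    intro N hN hn hmap
    have hle : ⁅P, N⁆ ≤ P := commutator_le.2 fun x hx y hy => by
      rw [commutatorElement_def, mul_assoc x, mul_assoc x]
      exact mul_mem hx ((mem_normalizer_iff.1 (hPn (hN hy)) _).1 (inv_mem hx))
    have hle' : ⁅P, N⁆ ≤ N := commutator_le.2 fun x hx y hy => by
      rw [commutatorElement_def]
      exact mul_mem ((mem_normalizer_iff.1 (hn (hPK hx)) _).1 hy) (inv_mem hy)
    rw [← eq_of_le_of_card_ge hle (hmin _ (hmem P N hPK hN hPn hn hPmap hmap))]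
    exact hle'
  -- `A` normalises it
  have hAn : A.subgroupOf C ≤ normalizer (P : Set C) := by
    intro b hb
    have hbL : qq a b ∈ normalizer (L : Set (Cq a)) := (c.concl hL).normed hm ⟨b, hb, rfl⟩
    have hbK : cj K b = K := by
      rw [hK, cj_inf]
      congr 1
      · refine cj_eq_self (mem_normalizer_fintype fun x hx => ?_)
        show qq a (b * x * b⁻¹) ∈ L
        rw [map_mul, map_mul, map_inv]
        exact (mem_normalizer_iff.1 hbL _).1 hx
      · refine cj_eq_self (le_normalizer (mem_centralizer_iff.2 fun t ht => Subtype.ext ?_))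
        exact comm_of_mem c.hyp.elem (pull_le _ (show (t : G) ∈ RG A a L from ht)) hb
    refine mem_normalizer_iff_cj.2 (eq_of_le_of_card_ge (huniq (cj P b) ?_ ?_ ?_) (by rw [card_cj])).symm
    · rw [← hbK]; exact cj_mono hPK b
    · intro k hk
      rw [← hbK] at hk
      obtain ⟨k, hk, rfl⟩ := hk
      refine mem_normalizer_fintype ?_
      rintro _ ⟨p, hp, rfl⟩
      refine ⟨k * p * k⁻¹, (mem_normalizer_iff.1 (hPn hk) p).1 hp, ?_⟩
      simp [mul_assoc]
    · refine le_antisymm ?_ fun v hv => ?_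
      · rintro _ ⟨_, ⟨p, hp, rfl⟩, rfl⟩
        show qq a (b * p * b⁻¹) ∈ L
        rw [map_mul, map_mul, map_inv]
        exact (mem_normalizer_iff.1 hbL _).1 (hPmap.le (mem_map_of_mem _ hp))
      · obtain ⟨p, hp, e⟩ := hPmap.ge ((mem_normalizer_iff.1 (inv_mem hbL) v).1 hv)
        refine ⟨b * p * b⁻¹, ⟨p, hp, rfl⟩, ?_⟩
        rw [map_mul, map_mul, map_inv, e]; group
  set O := Cfsg.oddCore ↥C with hO
  have hOodd : Odd (Nat.card O) := Char.card_oddCore_odd _
  -- involutions of `K` lie in `P`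
  have hinv : ∀ x ∈ K, x * x = 1 → x ∈ P := by
    intro x hx hxx
    haveI : (P.subgroupOf K).Normal := (normal_subgroupOf_iff_le_normalizer hPK).2 hPn
    obtain ⟨p, hp, e⟩ := hPmap.ge (hKmap.le (mem_map_of_mem (qq a) hx))
    set o : C := p⁻¹ * x with ho
    have hoO : o ∈ O := by rw [← qq_eq_one, ho, map_mul, map_inv, e, inv_mul_cancel]
    have hoK : o ∈ K := mul_mem (inv_mem (hPK hp)) hx
    set q := QuotientGroup.mk' (P.subgroupOf K) with hq
    have h1 : q ⟨x, hx⟩ = q ⟨o, hoK⟩ := by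
      refine QuotientGroup.eq_iff_div_mem.2 (mem_subgroupOf.2 ?_)
      show x / o ∈ P
      rw [ho, div_eq_mul_inv, mul_inv_rev, inv_inv, ← mul_assoc, mul_inv_cancel, one_mul]
      exact hp
    have h2 : orderOf (q ⟨x, hx⟩) ∣ 2 := orderOf_dvd_of_pow_eq_one (by
      rw [← map_pow, show (⟨x, hx⟩ : K) ^ 2 = 1 from Subtype.ext (by rw [SubgroupClass.coe_pow, pow_two]; exact hxx),
        map_one])
    have h3 : Odd (orderOf (q ⟨x, hx⟩)) := by
      refine hOodd.of_dvd_nat ?_
      rw [h1]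
      refine (orderOf_map_dvd q _).trans ?_
      rw [Subgroup.orderOf_mk]
      exact Subgroup.orderOf_mk o hoO ▸ _root_.orderOf_dvd_natCard _
    have h4 : q ⟨x, hx⟩ = 1 := orderOf_eq_one_iff.1
      (Nat.eq_one_of_dvd_coprimes h3.coprime_two_right dvd_rfl h2)
    exact mem_subgroupOf.1 ((QuotientGroup.eq_one_iff _).1 h4)
  have hE : ∀ x : C, (x : G) ∈ EG A a L → x ∈ P := by
    intro x hx
    obtain ⟨hxA, hxC, hxBL⟩ := mem_pull.1 hx
    refine hinv x (Subgroup.mem_inf.2 ⟨(Subgroup.mem_inf.1 hxBL).2, mem_centralizer_iff.2 fun t ht => Subtype.ext ?_⟩)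
      (Subtype.ext ?_)
    · exact comm_of_mem c.hyp.elem (pull_le _ (show (t : G) ∈ RG A a L from ht)) hxA
    · show (x : G) * x = 1
      rw [← pow_two]; exact c.hyp.elem.2 x hxA
  refine ⟨P.map C.subtype, map_subtype_le P, by rw [← map_commutator, hPP], ?_, ?_, ?_, ?_, ?_⟩
  · rintro r hr _ ⟨p, hp, rfl⟩
    exact congrArg Subtype.val (mem_centralizer_iff.1 (Subgroup.mem_inf.1 (hPK hp)).2 ⟨r, c.le_cent (pull_le _ hr)⟩ hr)
  · rwa [← comap_subtype, comap_map_eq_self_of_injective C.subtype_injective]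
  · intro x hx
    exact ⟨⟨x, c.le_cent (pull_le _ hx)⟩, hE _ hx, rfl⟩
  · intro N hN hn hmap
    refine perfect_eq_top_of_odd (by rw [← map_commutator, hPP]) hN hn (O := O.map C.subtype)
      (by rw [Subgroup.card_map_of_injective C.subtype_injective]; exact hOodd) ?_
    rintro _ ⟨p, hp, rfl⟩
    obtain ⟨n, hn', e⟩ := hmap.ge (hPmap.le (mem_map_of_mem (qq a) hp))
    exact ⟨(n : G)⁻¹, inv_mem hn', ⟨n⁻¹ * p, (qq_eq_one _).1 (by rw [map_mul, map_inv, e, inv_mul_cancel]), rfl⟩⟩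
  · intro y hy hyB
    obtain ⟨x, hx, rfl⟩ := hPmap.ge hy
    set A' := A.subgroupOf C with hA'
    have hPO : A' ≤ normalizer ((P ⊓ O : Subgroup C) : Set C) := fun b hb => mem_normalizer_of_cj_le (by
      rw [cj_inf, cj_eq_self (hAn hb), cj_of_normal O])
    have hA2 : IsPGroup 2 A' := c.hyp.sc.isPGroup.comap_of_injective _ (Subgroup.subtype_injective _)
    set N := A' ⊔ (P ⊓ O) with hNdef
    have hSyl : SylIn 2 A' N := by
      refine ⟨le_sup_left, hA2, fun hd => ?_⟩
      have h2 : A'.relIndex N ∣ Nat.card (P ⊓ O : Subgroup C) := by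
        have hle : A' ≤ N := le_sup_left
        have h3 : Nat.card A' * A'.relIndex N = Nat.card N := by
          rw [mul_comm, Subgroup.relIndex, ← Nat.card_congr (Subgroup.subgroupOfEquivOfLe hle).toEquiv,
            Subgroup.index_mul_card]
        have h4 : (A' : Set C) * ((P ⊓ O : Subgroup C) : Set C) = N := by
          rw [hNdef, coe_mul_of_left_le_normalizer_right _ _ hPO]
        have h5 : Nat.card N ∣ Nat.card A' * Nat.card (P ⊓ O : Subgroup C) := by
          haveI : ((P ⊓ O : Subgroup C).subgroupOf N).Normal :=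
            (normal_subgroupOf_iff_le_normalizer le_sup_right).2 (sup_le hPO le_normalizer)
          have h6 := Subgroup.card_eq_card_quotient_mul_card_subgroup ((P ⊓ O : Subgroup C).subgroupOf N)
          rw [Nat.card_congr (Subgroup.subgroupOfEquivOfLe (le_sup_right : P ⊓ O ≤ N)).toEquiv] at h6
          rw [h6]
          refine Nat.mul_dvd_mul_right ?_ _
          let φ : A' →* N ⧸ (P ⊓ O : Subgroup C).subgroupOf N :=
            (QuotientGroup.mk' _).comp (Subgroup.inclusion le_sup_left)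
          refine Subgroup.card_dvd_of_surjective φ fun u => ?_
          obtain ⟨⟨n, hn⟩, rfl⟩ := QuotientGroup.mk'_surjective _ u
          obtain ⟨b, hb, o, ho, e⟩ : n ∈ (A' : Set C) * ((P ⊓ O : Subgroup C) : Set C) := h4 ▸ hn
          refine ⟨⟨b, hb⟩, QuotientGroup.eq.2 (mem_subgroupOf.2 ?_)⟩
          show (b : C)⁻¹ * n ∈ P ⊓ O
          rw [← e, inv_mul_cancel_left]
          exact ho
        rw [← h3] at h5
        exact Nat.dvd_of_mul_dvd_mul_left Nat.card_pos h5
      exact Nat.not_even_iff_odd.2 (hOodd.of_dvd_nat (card_dvd_of_le (inf_le_right : P ⊓ O ≤ O)))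
        (even_iff_two_dvd.2 (hd.trans h2))
    have hxN : x ∈ normalizer (N : Set C) := by
      refine mem_normalizer_of_cj_le ?_
      rw [cj_sup, cj_inf, cj_eq_self (le_normalizer hx : x ∈ normalizer (P : Set C)), cj_of_normal O]
      refine sup_le ?_ le_sup_right
      rintro _ ⟨b, hb, rfl⟩
      show x * b * x⁻¹ ∈ N
      have hmB : qq a (x * b * x⁻¹ * b⁻¹) ∈ B := by
        rw [map_mul, map_mul, map_mul, map_inv, map_inv]
        exact mul_mem ((mem_normalizer_iff.1 hyB _).1 ⟨b, hb, rfl⟩) (inv_mem ⟨b, hb, rfl⟩)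
      have hcP : x * b * x⁻¹ * b⁻¹ ∈ P := by
        rw [show x * b * x⁻¹ * b⁻¹ = x * (b * x⁻¹ * b⁻¹) by group]
        exact mul_mem hx ((mem_normalizer_iff.1 (hAn hb) _).1 (inv_mem hx))
      obtain ⟨e, heA, hee⟩ := c.mem_img hmB
      have heE : e ∈ EG A a L := mem_pull.2 ⟨heA, c.le_cent heA,
        Subgroup.mem_inf.2 ⟨hee.symm ▸ hmB, hee.symm ▸ hPmap.le (mem_map_of_mem _ hcP)⟩⟩
      set eC : C := ⟨e, c.le_cent heA⟩
      have ho : eC⁻¹ * (x * b * x⁻¹ * b⁻¹) ∈ P ⊓ O := Subgroup.mem_inf.2 ⟨mul_mem (inv_mem (hE eC heE)) hcP, by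
        rw [← qq_eq_one, map_mul, map_inv, hee, inv_mul_cancel]⟩
      rw [show x * b * x⁻¹ = eC * (eC⁻¹ * (x * b * x⁻¹ * b⁻¹)) * b by group]
      exact mul_mem (mul_mem (mem_sup_left (show eC ∈ A' from heA)) (mem_sup_right ho)) (mem_sup_left hb)
    obtain ⟨n, hn, hnA⟩ := frattini_conj hSyl (H := normalizer (N : Set C)) le_rfl hxN
    obtain ⟨b, hb, o, ho, e⟩ : n ∈ (A' : Set C) * ((P ⊓ O : Subgroup C) : Set C) := by
      rw [← coe_mul_of_left_le_normalizer_right _ _ hPO]; exact hn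
    have hox : o * x ∈ normalizer (A' : Set C) := by
      have h := mul_mem (inv_mem (le_normalizer hb : b ∈ normalizer (A' : Set C))) hnA
      rwa [← e, show b⁻¹ * (b * o * x) = o * x by group] at h
    refine ⟨(o * x : C), ⟨o * x, mul_mem (Subgroup.mem_inf.1 ho).1 hx, rfl⟩, ?_, ?_⟩
    · rw [← Subgroup.subgroupOf_normalizer_eq c.le_cent] at hox
      exact hox
    · rw [Subtype.coe_eta, map_mul, (qq_eq_one o).2 (Subgroup.mem_inf.1 ho).2, one_mul]

variable {a : G} {L : Subgroup (Cq a)} {P : Subgroup G}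

namespace PLift

variable (hP : PLift A a L P)
include hP

theorem le_cent {r : G} (hr : r ∈ RG A a L) : P ≤ centralizer ({r} : Set G) := fun p hp =>
  mem_centralizer_singleton_iff.2 (hP.cent r hr p hp).symm

/-- The image in another centraliser modulo its core. -/
abbrev img' (_hP : PLift A a L P) (r : G) : Subgroup (Cq r) :=
  (P.subgroupOf (centralizer ({r} : Set G))).map (qq r)

theorem mem_img' {r p : G} (hr : r ∈ RG A a L) (hp : p ∈ P) : qq r ⟨p, hP.le_cent hr hp⟩ ∈ hP.img' r :=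
  mem_map_of_mem _ (mem_subgroupOf.2 hp)

theorem img'_perfect {r : G} (hr : r ∈ RG A a L) : ⁅hP.img' r, hP.img' r⁆ = hP.img' r := by
  rw [← map_commutator]
  congr 1
  refine map_injective (centralizer ({r} : Set G)).subtype_injective ?_
  rw [map_commutator, map_subgroupOf_eq_of_le (hP.le_cent hr), hP.perfect]

variable (hL : LocalStatement.{u}) (c : At A a) (hm : Moved (img a A) L)
include hL c hm

/-- The elements of `A` in the component generate the lift normally. -/
theorem le_of_normal {N : Subgroup G} (hn : P ≤ normalizer (N : Set G)) (hE : EG A a L ≤ N) : P ≤ N := by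
  set C := centralizer ({a} : Set G)
  suffices h : N ⊓ P = P from h ▸ inf_le_left
  refine hP.minimal _ inf_le_right (fun p hp => mem_normalizer_of_cj_le ?_) ?_
  · rw [cj_inf, cj_eq_self (hn hp), cj_eq_self (le_normalizer hp : p ∈ normalizer (P : Set G))]
  set N' := ((N ⊓ P).subgroupOf C).map (qq a) with hN'
  have hle : N' ≤ L := hP.map ▸ map_mono (comap_mono inf_le_right)
  have hnor : (N'.subgroupOf L).Normal := ⟨fun v hv l => by
    obtain ⟨p, hp, e⟩ := hP.map.ge l.2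
    obtain ⟨n, hn', e'⟩ := mem_subgroupOf.1 hv
    refine mem_subgroupOf.2 ⟨p * n * p⁻¹, ⟨(mem_normalizer_iff.1 (hn hp) _).1 hn'.1,
      P.mul_mem (P.mul_mem hp hn'.2) (P.inv_mem hp)⟩, ?_⟩
    rw [map_mul, map_mul, map_inv, e, e']
    rfl⟩
  rcases Solv.qs_normal_le_center_or_top hm.1.2 (N'.subgroupOf L) with htop | hcen
  · exact le_antisymm hle fun l hl => (htop.ge (mem_top ⟨l, hl⟩) :)
  · exfalso
    refine (c.concl hL).inf_not_le hm fun v hv => Subgroup.mem_inf.2 ⟨hv.1, mem_centralizer_iff.2 fun l hl => ?_⟩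
    obtain ⟨x, hx, hxU, rfl⟩ := c.exists_pull hv hv.1
    have h1 : (⟨_, hv.2⟩ : L) ∈ N'.subgroupOf L :=
      mem_subgroupOf.2 ⟨⟨x, c.le_cent hx⟩, ⟨hE hxU, hP.inf_le hxU⟩, rfl⟩
    exact congrArg Subtype.val (Subgroup.mem_center_iff.1 (hcen h1) ⟨l, hl⟩)

/-- Its image lies in the moved components. -/
theorem le_layer {r : G} (hr : r ∈ RG A a L) (hr1 : r ≠ 1) : hP.img' r ≤ movedLayer (img r A) := by
  have cr : At A r := ⟨c.hyp, pull_le _ hr, hr1⟩
  haveI := (cr.concl hL).movedLayer_normal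
  set C := centralizer ({r} : Set G)
  have hcl : hP.img' r ≤ normalClosure (img r A : Set (Cq r)) := by
    set N : Subgroup G := ((normalClosure (img r A : Set (Cq r))).comap (qq r)).map C.subtype with hN
    have hPN : P ≤ N := by
      refine hP.le_of_normal hL c hm (fun p hp => mem_normalizer_fintype ?_) fun x hx => ?_
      · rintro _ ⟨n, hn, rfl⟩
        refine ⟨⟨p, hP.le_cent hr hp⟩ * n * (⟨p, hP.le_cent hr hp⟩ : C)⁻¹, ?_, rfl⟩
        show qq r _ ∈ normalClosure _
        rw [map_mul, map_mul, map_inv]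
        exact normalClosure_normal.conj_mem _ hn _
      · exact ⟨⟨x, cr.le_cent (pull_le _ hx)⟩, subset_normalClosure (cr.qq_mem_img (pull_le _ hx)), rfl⟩
    rintro _ ⟨p, hp, rfl⟩
    obtain ⟨n, hn, e⟩ := hPN hp
    rw [← show n = p from Subtype.ext e]
    exact hn
  set ρ := QuotientGroup.mk' (movedLayer (img r A)) with hρ
  have h2 : IsPGroup 2 ((Cfsg.pCore 2 (Cq r)).map ρ) := (Fusion.isPGroup_pCore 2 _).map ρ
  have hle : (hP.img' r).map ρ ≤ (Cfsg.pCore 2 (Cq r)).map ρ := by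
    refine (map_mono (hcl.trans (cr.concl hL).closure_le)).trans ?_
    rw [Subgroup.map_sup, (Subgroup.map_eq_bot_iff _).2 (by rw [hρ, QuotientGroup.ker_mk']), bot_sup_eq]
  haveI : Group.IsNilpotent ((Cfsg.pCore 2 (Cq r)).map ρ) := by
    haveI : Fact (Nat.Prime 2) := ⟨Nat.prime_two⟩
    exact h2.isNilpotent
  have h3 : ((hP.img' r).map ρ).subgroupOf ((Cfsg.pCore 2 (Cq r)).map ρ) = ⊥ := by
    refine Walter.perfect_eq_bot (map_injective ((Cfsg.pCore 2 (Cq r)).map ρ).subtype_injective ?_)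
    rw [map_commutator, map_subgroupOf_eq_of_le hle, ← map_commutator, hP.img'_perfect hr]
  have h4 : (hP.img' r).map ρ = ⊥ := by
    rw [← map_subgroupOf_eq_of_le hle, h3, Subgroup.map_bot]
  rwa [Subgroup.map_eq_bot_iff, hρ, QuotientGroup.ker_mk'] at h4

/-- Some moved component is not centralised. -/
theorem exists_moved {r : G} (hr : r ∈ RG A a L) (hr1 : r ≠ 1) :
    ∃ J, Moved (img r A) J ∧ ¬ hP.img' r ≤ centralizer (J : Set (Cq r)) := by
  by_contra hno
  push Not at hno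
  have hle : hP.img' r ≤ centralizer (hP.img' r : Set (Cq r)) :=
    (le_centralizer_iff.1 (sSup_le fun J hJ => le_centralizer_iff.1 (hno J hJ) :
      movedLayer (img r A) ≤ centralizer (hP.img' r : Set (Cq r)))).trans
      (centralizer_le (hP.le_layer hL c hm hr hr1))
  have hbot : hP.img' r = ⊥ := (hP.img'_perfect hr).symm.trans (commutator_eq_bot_iff_le_centralizer.2 hle)
  set C := centralizer ({r} : Set G)
  have hPO : P.subgroupOf C ≤ Cfsg.oddCore ↥C := by
    rwa [Subgroup.map_eq_bot_iff, QuotientGroup.ker_mk'] at hbot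
  have hodd : Odd (Nat.card P) := by
    rw [← Nat.card_congr (subgroupOfEquivOfLe (hP.le_cent hr)).toEquiv]
    exact (Char.card_oddCore_odd _).of_dvd_nat (card_dvd_of_le hPO)
  haveI := Bender.AbelianSolvable.odd_solvable' hodd
  have hP1 : (⊤ : Subgroup P) = ⊥ := Walter.perfect_eq_bot (map_injective P.subtype_injective (by
    rw [map_commutator, ← MonoidHom.range_eq_map, Subgroup.range_subtype, hP.perfect]))
  refine Solv.qs_ne_bot hm.1.2 (eq_bot_iff.2 fun l hl => ?_)
  obtain ⟨p, hp, rfl⟩ := hP.map.ge hl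
  have h5 : (⟨p, hp⟩ : P) = 1 := mem_bot.1 (hP1.le (mem_top _))
  rw [mem_bot, show p = 1 from Subtype.ext (congrArg Subtype.val h5 :), map_one]

/-- **The key inclusion.** -/
theorem rG_le {r : G} (hr : r ∈ RG A a L) (hr1 : r ≠ 1) {J : Subgroup (Cq r)} (hJ : Moved (img r A) J)
    (hPJ : ¬ hP.img' r ≤ centralizer (J : Set (Cq r))) : RG A r J ≤ RG A a L := by
  have cr : At A r := ⟨c.hyp, pull_le _ hr, hr1⟩
  intro b hb
  obtain ⟨e, he, ρ, hρ, rfl⟩ := c.pull_sup inf_le_left rPart_le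
    (show b ∈ pull a A (img a A ⊓ L ⊔ rPart (img a A) L) by
      rw [← (c.concl hL).span hm]
      exact mem_pull.2 ⟨pull_le _ hb, c.le_cent (pull_le _ hb), c.qq_mem_img (pull_le _ hb)⟩)
  refine mul_mem (mem_pull.2 ⟨pull_le _ he, c.le_cent (pull_le _ he), Subgroup.mem_inf.2
    ⟨c.qq_mem_img (pull_le _ he), ?_⟩⟩) hρ
  set CJ := centralizer (J : Set (Cq r))
  have hPn : hP.img' r ≤ normalizer (J : Set (Cq r)) := (hP.le_layer hL c hm hr hr1).trans (movedLayer_le_normalizer hJ)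
  have hCn : ∀ v ∈ hP.img' r, v ∈ normalizer (CJ : Set (Cq r)) := fun v hv => by
    have h := hPn hv
    refine mem_normalizer_fintype fun z hz => mem_centralizer_iff.2 fun j hj => ?_
    have h1 := mem_centralizer_iff.1 hz _ ((mem_normalizer_iff.1 (inv_mem h) j).1 hj)
    calc j * (v * z * v⁻¹) = v * ((v⁻¹ * j * v⁻¹⁻¹) * z) * v⁻¹ := by group
      _ = _ := by rw [h1]; group
  set N : Subgroup G := P ⊓ (CJ.comap (qq r)).map (centralizer ({r} : Set G)).subtype with hN
  have hmemN : ∀ p, p ∈ N ↔ ∃ hp : p ∈ P, qq r ⟨p, hP.le_cent hr hp⟩ ∈ CJ := fun p => by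
    constructor
    · rintro ⟨hp, q, hq, rfl⟩; exact ⟨hp, hq⟩
    · rintro ⟨hp, hq⟩; exact ⟨hp, ⟨p, hP.le_cent hr hp⟩, hq, rfl⟩
  have hNn : P ≤ normalizer (N : Set G) := fun p hp => mem_normalizer_fintype fun n hn => by
    obtain ⟨hnP, hq⟩ := (hmemN n).1 hn
    refine (hmemN _).2 ⟨mul_mem (mul_mem hp hnP) (inv_mem hp), ?_⟩
    rw [show (⟨p * n * p⁻¹, hP.le_cent hr (mul_mem (mul_mem hp hnP) (inv_mem hp))⟩ : ↥(centralizer ({r} : Set G))) =
      ⟨p, hP.le_cent hr hp⟩ * ⟨n, hP.le_cent hr hnP⟩ * (⟨p, hP.le_cent hr hp⟩ : ↥(centralizer ({r} : Set G)))⁻¹ from rfl,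
      map_mul, map_mul, map_inv]
    exact (mem_normalizer_iff.1 (hCn _ (hP.mem_img' hr hp)) _).1 hq
  -- the commutators with `e` die on `J`
  have heN : ∀ p ∈ P, ⁅e, p⁆ ∈ N := by
    intro p hp
    have hep : e ∈ P := hP.inf_le he
    refine (hmemN _).2 ⟨mul_mem (mul_mem (mul_mem hep hp) (inv_mem hep)) (inv_mem hp), ?_⟩
    set eC : ↥(centralizer ({r} : Set G)) := ⟨e, hP.le_cent hr hep⟩
    set pC : ↥(centralizer ({r} : Set G)) := ⟨p, hP.le_cent hr hp⟩
    have hbC : qq r (eC * ⟨ρ, cr.le_cent (pull_le _ hρ)⟩) ∈ CJ := by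
      obtain ⟨-, _, h⟩ := mem_pull.1 hb
      exact (Subgroup.mem_inf.1 h).2
    have hcom : Commute (⟨ρ, cr.le_cent (pull_le _ hρ)⟩ : ↥(centralizer ({r} : Set G))) pC :=
      Subtype.ext (hP.cent ρ hρ p hp)
    show qq r ⁅eC, pC⁆ ∈ CJ
    set ρC : ↥(centralizer ({r} : Set G)) := ⟨ρ, cr.le_cent (pull_le _ hρ)⟩
    rw [show ⁅eC, pC⁆ = (eC * ρC) * (pC * (eC * ρC)⁻¹ * pC⁻¹) by
      calc ⁅eC, pC⁆ = eC * (pC * ρC) * (ρC⁻¹ * eC⁻¹) * pC⁻¹ := by simp only [commutatorElement_def]; group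
        _ = eC * (ρC * pC) * (ρC⁻¹ * eC⁻¹) * pC⁻¹ := by rw [hcom.eq]
        _ = _ := by group]
    simp only [map_mul, map_inv] at hbC ⊢
    exact mul_mem hbC ((mem_normalizer_iff.1 (hCn _ (hP.mem_img' hr hp)) _).1 (inv_mem hbC))
  -- so `e` is central in the component
  set N' := (N.subgroupOf (centralizer ({a} : Set G))).map (qq a) with hN'
  have hN'L : N' ≤ L := hP.map ▸ map_mono (comap_mono inf_le_left)
  have hnor : (N'.subgroupOf L).Normal := ⟨fun v hv l => by
    obtain ⟨p, hp, e'⟩ := hP.map.ge l.2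
    obtain ⟨n, hn', e''⟩ := mem_subgroupOf.1 hv
    refine mem_subgroupOf.2 ⟨p * n * p⁻¹, (mem_normalizer_iff.1 (hNn hp) _).1 hn', ?_⟩
    rw [map_mul, map_mul, map_inv, e', e'']
    rfl⟩
  rcases Solv.qs_normal_le_center_or_top hm.1.2 (N'.subgroupOf L) with htop | hcen
  · exfalso
    refine hPJ ?_
    have heq : N = P := hP.minimal N inf_le_left hNn (le_antisymm hN'L fun l hl => (htop.ge (mem_top ⟨l, hl⟩) :))
    rintro _ ⟨p, hp, rfl⟩
    exact ((hmemN p).1 (heq.ge hp)).2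
  refine mem_centralizer_iff.2 fun l hl => ?_
  -- a homomorphism to the centre
  obtain ⟨eL, heL⟩ : ∃ eL : L, (eL : Cq a) = qq a ⟨e, c.le_cent (pull_le _ he)⟩ :=
    ⟨⟨_, by obtain ⟨-, _, h⟩ := mem_pull.1 he; exact (Subgroup.mem_inf.1 h).2⟩, rfl⟩
  have hz : ∀ v : L, ⁅eL, v⁆ ∈ Subgroup.center L := fun v => by
    obtain ⟨p, hp, e'⟩ := hP.map.ge v.2
    refine hcen (mem_subgroupOf.2 ⟨⁅(⟨e, c.le_cent (pull_le _ he)⟩ : ↥(centralizer ({a} : Set G))), p⁆, heN p hp, ?_⟩)
    rw [map_commutatorElement, ← heL, e']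
    rfl
  let φ : L →* Subgroup.center L := MonoidHom.mk' (fun v => ⟨⁅eL, v⁆, hz v⟩) fun v w => Subtype.ext (by
    show ⁅eL, v * w⁆ = ⁅eL, v⁆ * ⁅eL, w⁆
    calc ⁅eL, v * w⁆ = ⁅eL, v⁆ * (v * ⁅eL, w⁆ * v⁻¹) := by simp only [commutatorElement_def]; group
      _ = _ := by rw [Subgroup.mem_center_iff.1 (hz w) v, mul_inv_cancel_right])
  haveI := hm.1.2.1
  have hφ : commutator L ≤ φ.ker := by
    rw [_root_.commutator_def, Subgroup.commutator_le]
    intro x _ y _
    rw [MonoidHom.mem_ker, map_commutatorElement, commutatorElement_eq_one_iff_commute]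
    exact Subtype.ext (Subgroup.mem_center_iff.1 (φ y).2 _)
  rw [Group.IsPerfect.commutator_eq_top] at hφ
  have h1 : ⁅eL, (⟨l, hl⟩ : L)⁆ = 1 := congrArg Subtype.val (MonoidHom.mem_ker.1 (hφ (mem_top (⟨l, hl⟩ : L))))
  rw [commutatorElement_eq_one_iff_commute] at h1
  rw [← heL]
  exact (congrArg Subtype.val h1.eq).symm

end PLift

end Cfsg.Agent.Goldschmidt
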