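import Cfsg.Agent.Lib.Goldschmidt.Sys.NoBad

/-!
# The pairs obey their axioms
-/

set_option autoImplicit false
set_option linter.style.haveILetI false
set_option linter.unusedSectionVars false

namespace Cfsg.Agent.Goldschmidt

open Subgroup Cfsg.Agent Cfsg.Agent.Fusion
open Cfsg.Agent.Local.SCA (comm_of_mem)
open scoped commutatorElement Pointwise

universe u

variable {G : Type u} [Group G] [Finite G] {A : Subgroup G}

/-- Every pair is good. -/
theorem At.pairData (hL : LocalStatement.{u}) {a : G} (c : At A a) {J : Subgroup (Cq a)} (hJ : Moved (img a A) J) :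
    PairData (img a A) J :=
  (c.concl hL).pair J hJ (no_bad hL c.hyp c hJ)

/-- The torus of a pair in the group, inside the lift. -/
theorem exists_torus (hL : LocalStatement.{u}) {a : G} (c : At A a) {J : Subgroup (Cq a)} (hJ : Moved (img a A) J)
    {P : Subgroup G} (hP : PLift A a J P) :
    ∃ h ∈ P, h ∈ normalizer (A : Set G) ∧ (∀ r ∈ RG A a J, h * r = r * h) ∧
      (∀ s ∈ pull a A (tPart (img a A) J), h * s * h⁻¹ ∈ pull a A (tPart (img a A) J)) ∧
      (∀ s ∈ pull a A (tPart (img a A) J), h ^ (Nat.card (pull a A (tPart (img a A) J)) - 1) * s =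
        s * h ^ (Nat.card (pull a A (tPart (img a A) J)) - 1)) ∧
      ∀ s ∈ pull a A (tPart (img a A) J), s ≠ 1 → ∀ s' ∈ pull a A (tPart (img a A) J), s' ≠ 1 →
        ∃ i : ℕ, h ^ i * s * (h ^ i)⁻¹ = s' := by
  have p := c.pairData hL hJ
  have hT : tPart (img a A) J ≤ img a A := p.le.trans inf_le_left
  obtain ⟨h₀, hJ₀, hB₀, -, h2, h3, h4⟩ := p.torus
  obtain ⟨h, hhP, hhA, rfl⟩ := hP.lift h₀ hJ₀ hB₀
  set C := centralizer ({a} : Set G)
  set hC : C := ⟨h, hP.le hhP⟩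
  have hcard : Nat.card (pull a A (tPart (img a A) J)) = Nat.card (tPart (img a A) J) := by
    refine Nat.card_congr (Equiv.ofBijective (fun x => ⟨qq a ⟨x.1, c.le_cent (pull_le _ x.2)⟩, c.qq_of_mem x.2⟩)
      ⟨fun x y e => Subtype.ext (c.qq_inj (pull_le _ x.2) (pull_le _ y.2) (congrArg Subtype.val e)), fun v => ?_⟩)
    obtain ⟨x, _, hxT, e⟩ := c.exists_pull v.2 (hT v.2)
    exact ⟨⟨x, hxT⟩, Subtype.ext e⟩
  refine ⟨h, hhP, hhA, fun r hr => (hP.cent r hr h hhP).symm, fun s hs => ?_, fun s hs => ?_,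
    fun s hs hs1 s' hs' hs1' => ?_⟩
  · refine c.mem_of_qq (conj_mem_of_norm hhA (pull_le _ hs)) ?_
    rw [show (⟨h * s * h⁻¹, c.le_cent (conj_mem_of_norm hhA (pull_le _ hs))⟩ : C) =
      hC * ⟨s, c.le_cent (pull_le _ hs)⟩ * hC⁻¹ from rfl, map_mul, map_mul, map_inv]
    exact h2 _ (c.qq_of_mem hs)
  · refine c.comm_of_qq (pow_mem (hP.le hhP) _) (pow_mem hhA _) (pull_le _ hs) ?_
    rw [show (⟨h ^ (Nat.card (pull a A (tPart (img a A) J)) - 1), pow_mem (hP.le hhP) _⟩ : C) =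
      hC ^ (Nat.card (pull a A (tPart (img a A) J)) - 1) from rfl, map_pow, hcard]
    exact h3 _ (c.qq_of_mem hs)
  · have hne : ∀ {v}, (hv : v ∈ pull a A (tPart (img a A) J)) → v ≠ 1 →
        qq a ⟨v, c.le_cent (pull_le _ hv)⟩ ≠ 1 := fun {v} hv h1 e =>
      h1 (c.qq_inj (pull_le _ hv) (one_mem A) (e.trans (map_one (qq a)).symm))
    obtain ⟨i, hi⟩ := h4 _ (c.qq_of_mem hs) (hne hs hs1) _ (c.qq_of_mem hs') (hne hs' hs1')
    refine ⟨i, c.qq_inj (conj_mem_of_norm (pow_mem hhA i) (pull_le _ hs)) (pull_le _ hs') ?_⟩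
    rw [show (⟨h ^ i * s * (h ^ i)⁻¹, c.le_cent (conj_mem_of_norm (pow_mem hhA i) (pull_le _ hs))⟩ : C) =
      hC ^ i * ⟨s, c.le_cent (pull_le _ hs)⟩ * (hC ^ i)⁻¹ from rfl, map_mul, map_mul, map_inv, map_pow]
    exact hi

/-- **The axioms of the pairs.** -/
theorem sys_of_local (hL : LocalStatement.{u}) : SysStatement.{u} := by
  intro G _ _ A h
  refine { mem := ?_, le := ?_, torus := ?_, smul := ?_, orth := ?_, lift := ?_ }
  · rintro a T R ⟨ha, ha1, J, -, -, rfl⟩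
    have c : At A a := ⟨h, ha, ha1⟩
    refine c.mem_of_qq ha (Subgroup.mem_inf.2 ⟨c.qq_mem_img ha, mem_centralizer_iff.2 fun l _ => ?_⟩)
    obtain ⟨l, rfl⟩ := qq_surjective a l
    rw [← map_mul, ← map_mul]
    exact congrArg (qq a) (Subtype.ext (mem_centralizer_singleton_iff.1 l.2))
  · rintro a T R ⟨ha, ha1, J, hJ, rfl, rfl⟩
    have c : At A a := ⟨h, ha, ha1⟩
    have p := c.pairData hL hJ
    have hT : tPart (img a A) J ≤ img a A := p.le.trans inf_le_left
    refine ⟨pull_le _, pull_le _, ?_, ?_, ?_⟩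
    · refine (Subgroup.eq_bot_iff_forall _).2 fun x hx => ?_
      have h1 : qq a ⟨x, c.le_cent (pull_le _ hx.1)⟩ ∈ tPart (img a A) J ⊓ rPart (img a A) J :=
        Subgroup.mem_inf.2 ⟨c.qq_of_mem hx.1, c.qq_of_mem hx.2⟩
      rw [p.disj, mem_bot] at h1
      exact c.qq_inj (pull_le _ hx.1) (one_mem A) (h1.trans (map_one (qq a)).symm)
    · refine le_antisymm (fun x hx => ?_) (sup_le (pull_le _) (pull_le _))
      obtain ⟨y, hy, z, hz, rfl⟩ := c.pull_sup hT rPart_le
        (show x ∈ pull a A (tPart (img a A) J ⊔ rPart (img a A) J) by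
          rw [← p.split]; exact c.mem_of_qq hx (c.qq_mem_img hx))
      exact mul_mem (mem_sup_left hy) (mem_sup_right hz)
    · refine p.big.trans_eq (Nat.card_congr (Equiv.ofBijective
        (fun x => ⟨qq a ⟨x.1, c.le_cent (pull_le _ x.2)⟩, c.qq_of_mem x.2⟩)
        ⟨fun x y e => Subtype.ext (c.qq_inj (pull_le _ x.2) (pull_le _ y.2) (congrArg Subtype.val e)), fun v => ?_⟩)).symm
      obtain ⟨x, _, hxT, e⟩ := c.exists_pull v.2 (hT v.2)
      exact ⟨⟨x, hxT⟩, Subtype.ext e⟩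
  · rintro a T R ⟨ha, ha1, J, hJ, rfl, rfl⟩
    have c : At A a := ⟨h, ha, ha1⟩
    obtain ⟨P, hP⟩ := exists_pLift hL c hJ
    obtain ⟨x, -, h1, h2, h3, h4, h5⟩ := exists_torus hL c hJ hP
    exact ⟨x, h1, h2, h3, h4, h5⟩
  · exact fun hM g hg => hM.conj h hg
  · rintro a T R T' R' ⟨ha, ha1, J, hJ, rfl, rfl⟩ ⟨-, -, J', hJ', rfl, rfl⟩
    have c : At A a := ⟨h, ha, ha1⟩
    by_cases e : J = J'
    · subst e; exact Or.inl ⟨rfl, rfl⟩
    · exact Or.inr ⟨pull_mono ((c.pairData hL hJ).le.trans (hJ'.inf_le_rPart hJ (Ne.symm e))),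
        pull_mono ((c.pairData hL hJ').le.trans (hJ.inf_le_rPart hJ' e))⟩
  · rintro a T R ⟨ha, ha1, J, hJ, rfl, rfl⟩ r hr hr1
    have c : At A a := ⟨h, ha, ha1⟩
    have cr : At A r := ⟨h, pull_le _ hr, hr1⟩
    obtain ⟨P, hP⟩ := exists_pLift hL c hJ
    obtain ⟨J', hJ', hPJ⟩ := hP.exists_moved hL c hJ hr hr1
    have hle := hP.rG_le hL c hJ hr hr1 hJ' hPJ
    refine ⟨_, _, ⟨cr.mem, hr1, J', hJ', rfl, rfl⟩, ?_, hle⟩
    obtain ⟨x, hxP, hxA, hxR, hxT, hxpow, htr⟩ := exists_torus hL c hJ hP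
    set T := pull a A (tPart (img a A) J) with hTdef
    have p' := cr.pairData hL hJ'
    set xC : ↥(centralizer ({r} : Set G)) := ⟨x, hP.le_cent hr hxP⟩
    set u := qq r xC with hu
    have huJ : u ∈ normalizer (J' : Set (Cq r)) :=
      movedLayer_le_normalizer hJ' (hP.le_layer hL c hJ hr hr1 (hP.mem_img' hr hxP))
    have huT : (tPart (img r A) J').map (MulAut.conj u).toMonoidHom = tPart (img r A) J' := by
      rw [map_tPart, show (img r A).map (MulAut.conj u).toMonoidHom = img r A from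
        Fusion.cj_eq_self (cr.qq_norm _ hxA), show J'.map (MulAut.conj u).toMonoidHom = J' from Fusion.cj_eq_self huJ]
    -- every element of `T` is a commutator with the torus
    let f : T → T := fun s => ⟨x * s * x⁻¹ * (s : G)⁻¹, mul_mem (hxT s s.2) (inv_mem s.2)⟩
    have hsA : ∀ {s : G}, s ∈ T → s ∈ A := fun hs => pull_le _ hs
    have hfix : ∀ s ∈ T, x * s * x⁻¹ = s → s = 1 := by
      intro s hs e
      by_contra hs1
      have hpow : ∀ i : ℕ, x ^ i * s * (x ^ i)⁻¹ = s := fun i => by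
        rw [((show Commute x s from mul_inv_eq_iff_eq_mul.1 e).pow_left i).eq, mul_inv_cancel_right]
      classical
      haveI := Fintype.ofFinite T
      have h4 : 4 ≤ Nat.card T := by
        have hT : tPart (img a A) J ≤ img a A := (c.pairData hL hJ).le.trans inf_le_left
        refine (c.pairData hL hJ).big.trans (Nat.card_le_card_of_surjective
          (fun y : T => (⟨qq a ⟨y.1, c.le_cent (pull_le _ y.2)⟩, c.qq_of_mem y.2⟩ : tPart (img a A) J)) fun v => ?_)
        obtain ⟨y, _, hyT, e⟩ := c.exists_pull v.2 (hT v.2)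
        exact ⟨⟨y, hyT⟩, Subtype.ext e⟩
      have h2 : (Finset.univ : Finset T) ⊆ {1, ⟨s, hs⟩} := fun y _ => by
        by_cases hy : (y : G) = 1
        · simp [show y = 1 from Subtype.ext hy]
        · obtain ⟨i, hi⟩ := htr s hs hs1 y y.2 hy
          rw [hpow] at hi
          simp [show y = ⟨s, hs⟩ from Subtype.ext hi.symm]
      have h3 := (Finset.card_le_card h2).trans Finset.card_le_two
      rw [Finset.card_univ, ← Nat.card_eq_fintype_card] at h3
      omega
    have hinj : Function.Injective f := fun s t e => by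
      have e' : x * s * x⁻¹ * (s : G)⁻¹ = x * t * x⁻¹ * (t : G)⁻¹ := congrArg Subtype.val e
      refine Subtype.ext (inv_mul_eq_one.1 (hfix _ (mul_mem (inv_mem s.2) t.2) ?_))
      rw [mul_inv_eq_iff_eq_mul] at e'
      calc x * ((s : G)⁻¹ * t) * x⁻¹ = (x * s * x⁻¹)⁻¹ * (x * t * x⁻¹) := by group
        _ = (s : G)⁻¹ * t := by rw [e']; group
    intro t ht
    obtain ⟨⟨s, hs⟩, e⟩ := Finite.injective_iff_surjective.1 hinj ⟨t, ht⟩
    have e' : x * s * x⁻¹ * s⁻¹ = t := congrArg Subtype.val e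
    obtain ⟨y, hy, z, hz, rfl⟩ := cr.pull_sup (p'.le.trans inf_le_left) rPart_le
      (show s ∈ pull r A (tPart (img r A) J' ⊔ rPart (img r A) J') by
        rw [← p'.split]; exact cr.mem_of_qq (hsA hs) (cr.qq_mem_img (hsA hs)))
    have ht' : t = x * y * x⁻¹ * y⁻¹ := by
      rw [← e', mul_inv_rev, ← mul_assoc x y z, mul_assoc (x * y) z x⁻¹,
        ← (Commute.inv_left (hxR z (hle hz) : Commute x z)).eq]
      group
    refine cr.mem_of_qq (hsA ht) ?_
    rw [show (⟨t, cr.le_cent (hsA ht)⟩ : ↥(centralizer ({r} : Set G))) = xC * ⟨y, cr.le_cent (pull_le _ hy)⟩ * xC⁻¹ *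
      (⟨y, cr.le_cent (pull_le _ hy)⟩ : ↥(centralizer ({r} : Set G)))⁻¹ from Subtype.ext ht', map_mul, map_mul, map_mul,
      map_inv, map_inv]
    exact mul_mem (huT.le ⟨_, cr.qq_of_mem hy, rfl⟩) (inv_mem (cr.qq_of_mem hy))

end Cfsg.Agent.Goldschmidt
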