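import Cfsg.Agent.Lib.Goldschmidt.Sys.Lift
import Cfsg.Agent.Lib.Goldschmidt.Sys.Transport

/-!
# No bad pairs

A bad pair with `R` as small as possible occurs with the same `R` at every element of `R`, so a translate of `R` meeting
`R` forces a fixed commutator into `R`; hence some translate meets it trivially, and its transvection at `a` is
impossible.
-/

set_option autoImplicit false
set_option linter.style.haveILetI false
set_option linter.unusedSectionVars false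

namespace Cfsg.Agent.Goldschmidt

open Subgroup Cfsg.Agent Cfsg.Agent.Fusion
open Cfsg.Agent.Local.SCA (comm_of_mem)
open scoped commutatorElement Pointwise

universe u

variable {G : Type u} [Group G] [Finite G] {A : Subgroup G}

namespace At

variable {a : G} (c : At A a)
include c

theorem qq_norm {x : G} (hxC : x ∈ centralizer ({a} : Set G)) (hx : x ∈ normalizer (A : Set G)) :
    qq a ⟨x, hxC⟩ ∈ normalizer (img a A : Set (Cq a)) := by
  refine mem_normalizer_fintype fun u hu => ?_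
  obtain ⟨y, hy, rfl⟩ := c.mem_img hu
  rw [← map_inv, ← map_mul, ← map_mul]
  exact ⟨_, mem_subgroupOf.2 (conj_mem_of_norm hx hy), rfl⟩

theorem mem_of_qq {U : Subgroup (Cq a)} {x : G} (hx : x ∈ A) (h : qq a ⟨x, c.le_cent hx⟩ ∈ U) :
    x ∈ pull a A U := mem_pull.2 ⟨hx, c.le_cent hx, h⟩

theorem qq_of_mem {U : Subgroup (Cq a)} {x : G} (hx : x ∈ pull a A U) :
    qq a ⟨x, c.le_cent (pull_le _ hx)⟩ ∈ U := (mem_pull.1 hx).2.choose_spec

/-- Commuting modulo the core is commuting. -/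
theorem comm_of_qq {x y : G} (hxC : x ∈ centralizer ({a} : Set G)) (hx : x ∈ normalizer (A : Set G)) (hy : y ∈ A)
    (e : qq a ⟨x, hxC⟩ * qq a ⟨y, c.le_cent hy⟩ = qq a ⟨y, c.le_cent hy⟩ * qq a ⟨x, hxC⟩) : x * y = y * x := by
  have h1 : x * y * x⁻¹ = y := c.qq_inj (conj_mem_of_norm hx hy) hy (by
    rw [show (⟨x * y * x⁻¹, c.le_cent (conj_mem_of_norm hx hy)⟩ : ↥(centralizer ({a} : Set G))) =
      ⟨x, hxC⟩ * ⟨y, c.le_cent hy⟩ * (⟨x, hxC⟩ : ↥(centralizer ({a} : Set G)))⁻¹ from rfl, map_mul, map_mul, map_inv,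
      e, mul_inv_cancel_right])
  exact mul_inv_eq_iff_eq_mul.1 h1

end At

/-- A bad pair. -/
def Bad' (A : Subgroup G) (a : G) (L : Subgroup (Cq a)) : Prop :=
  Moved (img a A) L ∧ tPart (img a A) L ⊓ rPart (img a A) L ≠ ⊥

/-- What the transvection over an element of `A` does, in the group. -/
structure Transv (A R : Subgroup G) (x : G) : Prop where
  norm : x ∈ normalizer (A : Set G)
  fix : ∀ r ∈ R, x * r = r * x
  comm : ∀ b ∈ A, x * b * x⁻¹ * b⁻¹ ∈ R
  sq : ∀ b ∈ A, x * x * b = b * (x * x)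
  ne : ∃ b ∈ A, x * b ≠ b * x

theorem exists_transv (hL : LocalStatement.{u}) {a : G} (c : At A a) {L : Subgroup (Cq a)} (hb : Bad' A a L)
    {P : Subgroup G} (hP : PLift A a L P) {e : G} (he : e ∈ EG A a L) (heR : e ∉ RG A a L) :
    ∃ x ∈ P, Transv A (RG A a L) x ∧ ∃ e' ∈ A, e⁻¹ * e' ∈ RG A a L ∧ x * e' = e' * x := by
  obtain ⟨x₀, hx₀L, hx₀B, hsq, -, ⟨e₀, he₀, he₀R, he₀x⟩, hcomm, hne⟩ :=
    ((c.concl hL).bad L hb.1 hb.2).lift _ (c.qq_of_mem he) fun h => heR (c.mem_of_qq (pull_le _ he) h)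
  obtain ⟨x, hxP, hxA, rfl⟩ := hP.lift x₀ hx₀L hx₀B
  obtain ⟨e', he', rfl⟩ := c.mem_img he₀
  have hxx : x * x ∈ normalizer (A : Set G) := mul_mem hxA hxA
  refine ⟨x, hxP, ⟨hxA, fun r hr => (hP.cent r hr x hxP).symm, fun b hb' => ?_, fun b hb' => ?_, ?_⟩,
    e', he', ?_, c.comm_of_qq _ hxA he' he₀x⟩
  · have hm : x * b * x⁻¹ * b⁻¹ ∈ A := mul_mem (conj_mem_of_norm hxA hb') (inv_mem hb')
    refine c.mem_of_qq hm ?_
    rw [show (⟨x * b * x⁻¹ * b⁻¹, c.le_cent hm⟩ : ↥(centralizer ({a} : Set G))) =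
      ⁅(⟨x, hP.le hxP⟩ : ↥(centralizer ({a} : Set G))), ⟨b, c.le_cent hb'⟩⁆ from rfl, map_commutatorElement]
    exact hcomm _ (c.qq_mem_img hb')
  · refine c.comm_of_qq (mul_mem (hP.le hxP) (hP.le hxP)) hxx hb' ?_
    rw [show (⟨x * x, mul_mem (hP.le hxP) (hP.le hxP)⟩ : ↥(centralizer ({a} : Set G))) =
      ⟨x, hP.le hxP⟩ * ⟨x, hP.le hxP⟩ from rfl, map_mul]
    exact (mem_centralizer_iff.1 hsq _ (c.qq_mem_img hb')).symm
  · by_contra hall
    push Not at hall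
    refine hne fun b hb' => ?_
    obtain ⟨b, hbA, rfl⟩ := c.mem_img hb'
    rw [← map_mul, ← map_mul]
    exact congrArg (qq a) (Subtype.ext (hall b hbA))
  · have hm : e⁻¹ * e' ∈ A := mul_mem (inv_mem (pull_le _ he)) he'
    refine c.mem_of_qq hm ?_
    rw [show (⟨e⁻¹ * e', c.le_cent hm⟩ : ↥(centralizer ({a} : Set G))) =
      (⟨e, c.le_cent (pull_le _ he)⟩ : ↥(centralizer ({a} : Set G)))⁻¹ * ⟨e', c.le_cent he'⟩ from rfl, map_mul, map_inv]
    exact he₀R

/-- A bad pair with least `R` is at every element of `R`, with a given commutator in its component. -/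
theorem exists_same (hL : LocalStatement.{u}) {a : G} (c : At A a) {L : Subgroup (Cq a)} (hb : Bad' A a L)
    (hmin : ∀ (a' : G) (L' : Subgroup (Cq a')), At A a' → Bad' A a' L' →
      Nat.card (RG A a L) ≤ Nat.card (RG A a' L')) :
    ∃ d, d ≠ 1 ∧ d ∈ RG A a L ∧ d ∈ EG A a L ∧ ∀ r ∈ RG A a L, r ≠ 1 →
      ∃ J, Moved (img r A) J ∧ RG A r J = RG A a L ∧ d ∈ EG A r J := by
  obtain ⟨P, hP⟩ := exists_pLift hL c hb.1
  obtain ⟨e, he, heR⟩ : ∃ e, e ∈ EG A a L ∧ e ∉ RG A a L := by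
    by_contra h
    push Not at h
    refine (c.concl hL).inf_not_le hb.1 fun v hv => ?_
    obtain ⟨y, hy, hyU, rfl⟩ := c.exists_pull hv hv.1
    exact c.qq_of_mem (h y hyU)
  obtain ⟨x, hxP, hx, -⟩ := exists_transv hL c hb hP he heR
  obtain ⟨b, hbA, hbx⟩ := hx.ne
  set d := x * b * x⁻¹ * b⁻¹ with hd
  have hdA : d ∈ A := mul_mem (conj_mem_of_norm hx.norm hbA) (inv_mem hbA)
  have hd1 : d ≠ 1 := fun h => hbx (mul_inv_eq_iff_eq_mul.1 (mul_inv_eq_one.1 h))
  have main : ∀ (r : G) (cr : At A r) (J : Subgroup (Cq r)) (hxr : x ∈ centralizer ({r} : Set G)),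
      Moved (img r A) J → RG A r J ≤ RG A a L → qq r ⟨x, hxr⟩ ∈ normalizer (J : Set (Cq r)) → d ∈ EG A r J := by
    intro r cr J hxr hJ hle hu
    obtain ⟨b₁, hb₁, b₂, hb₂, hbe⟩ := cr.pull_sup inf_le_left rPart_le
      (show b ∈ pull r A (img r A ⊓ J ⊔ rPart (img r A) J) by
        rw [← (cr.concl hL).span hJ]; exact cr.mem_of_qq hbA (cr.qq_mem_img hbA))
    have hd' : d = x * b₁ * x⁻¹ * b₁⁻¹ := by
      rw [hd, hbe, mul_inv_rev, ← mul_assoc x b₁ b₂, mul_assoc (x * b₁) b₂, ← (Commute.inv_left (hx.fix _ (hle hb₂) :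
        Commute x b₂)).eq]
      group
    refine cr.mem_of_qq hdA (Subgroup.mem_inf.2 ⟨cr.qq_mem_img hdA, ?_⟩)
    have hbJ := (Subgroup.mem_inf.1 (cr.qq_of_mem hb₁)).2
    rw [show (⟨d, cr.le_cent hdA⟩ : ↥(centralizer ({r} : Set G))) = ⟨x, hxr⟩ * ⟨b₁, cr.le_cent (pull_le _ hb₁)⟩ *
      (⟨x, hxr⟩ : ↥(centralizer ({r} : Set G)))⁻¹ * (⟨b₁, cr.le_cent (pull_le _ hb₁)⟩ : ↥(centralizer ({r} : Set G)))⁻¹
        from Subtype.ext hd', map_mul, map_mul, map_mul, map_inv, map_inv]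
    exact mul_mem ((mem_normalizer_iff.1 hu _).1 hbJ) (inv_mem hbJ)
  refine ⟨d, hd1, hx.comm b hbA, main a c L (hP.le hxP) hb.1 le_rfl
    (le_normalizer (hP.map.le (mem_map_of_mem _ (mem_subgroupOf.2 hxP)))), fun r hr hr1 => ?_⟩
  have cr : At A r := ⟨c.hyp, pull_le _ hr, hr1⟩
  obtain ⟨J, hJ, hPJ⟩ := hP.exists_moved hL c hb.1 hr hr1
  have hle := hP.rG_le hL c hb.1 hr hr1 hJ hPJ
  have hu : qq r ⟨x, hP.le_cent hr hxP⟩ ∈ movedLayer (img r A) :=
    hP.le_layer hL c hb.1 hr hr1 (hP.mem_img' hr hxP)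
  by_cases hgood : tPart (img r A) J ⊓ rPart (img r A) J = ⊥
  · exfalso
    have p := (cr.concl hL).pair J hJ hgood
    refine hbx ?_
    obtain ⟨t, ht, s, hs, rfl⟩ := cr.pull_sup (p.le.trans inf_le_left) rPart_le
      (show b ∈ pull r A (tPart (img r A) J ⊔ rPart (img r A) J) by
        rw [← p.split]; exact cr.mem_of_qq hbA (cr.qq_mem_img hbA))
    have h1 : x * t = t * x := cr.comm_of_qq (hP.le_cent hr hxP) hx.norm (pull_le _ ht)
      (p.fixed _ (movedLayer_le hJ hu) (cr.qq_norm _ hx.norm) (mem_centralizer_iff.2 fun v hv => by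
        obtain ⟨y, hy, rfl⟩ := cr.mem_img hv
        rw [← map_mul, ← map_mul, ← map_mul]
        exact congrArg (qq r) (Subtype.ext (hx.sq y hy).symm)) _ (cr.qq_of_mem ht))
    rw [← mul_assoc, h1, mul_assoc, hx.fix s (hle hs), mul_assoc]
  · exact ⟨J, hJ, eq_of_le_of_card_ge hle (hmin r J cr ⟨hJ, hgood⟩),
      main r cr J _ hJ hle (movedLayer_le_normalizer hJ hu)⟩

/-- **There are no bad pairs.** -/
theorem no_bad (hL : LocalStatement.{u}) (h : Hyp G A) {a₀ : G} (c₀ : At A a₀) {L₀ : Subgroup (Cq a₀)}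
    (hm₀ : Moved (img a₀ A) L₀) : tPart (img a₀ A) L₀ ⊓ rPart (img a₀ A) L₀ = ⊥ := by
  classical
  by_contra hne₀
  obtain ⟨-, ⟨a, L, c, hb, rfl⟩, hmin⟩ := Set.exists_min_image
    {R : Subgroup G | ∃ (a : G) (L : Subgroup (Cq a)), At A a ∧ Bad' A a L ∧ RG A a L = R}
    (fun R => Nat.card R) (Set.toFinite _) ⟨_, a₀, L₀, c₀, ⟨hm₀, hne₀⟩, rfl⟩
  obtain ⟨d, hd1, hdR, hdE, hsame⟩ := exists_same hL c hb fun a' L' c' hb' => hmin _ ⟨a', L', c', hb', rfl⟩
  set R := RG A a L with hR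
  have hspan : ∀ y ∈ A, ∃ e ∈ EG A a L, ∃ ρ ∈ R, y = e * ρ := fun y hy =>
    c.pull_sup inf_le_left rPart_le (show y ∈ pull a A (img a A ⊓ L ⊔ rPart (img a A) L) by
      rw [← (c.concl hL).span hb.1]; exact c.mem_of_qq hy (c.qq_mem_img hy))
  -- a translate meeting `R` puts the translated commutator into `R`
  have hmeet : ∀ g ∈ normalizer (A : Set G), R ⊓ R.map (MulAut.conj g).toMonoidHom ≠ ⊥ → g * d * g⁻¹ ∈ R := by
    intro g hg hne
    obtain ⟨⟨r, hr⟩, hr'⟩ := Subgroup.ne_bot_iff_exists_ne_one.1 hne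
    have hr1 : r ≠ 1 := fun e => hr' (Subtype.ext e)
    obtain ⟨hrR, r₀, hr₀, rfl⟩ := hr
    change g * r₀ * g⁻¹ ≠ 1 at hr1
    change g * r₀ * g⁻¹ ∈ R at hrR
    have cr₀ : At A r₀ := ⟨h, pull_le _ hr₀, fun e => hr1 (by rw [e]; group)⟩
    obtain ⟨J₁, hJ₁, hR₁, -⟩ := hsame _ hrR hr1
    obtain ⟨J₀, hJ₀, hR₀, hd₀⟩ := hsame r₀ hr₀ cr₀.ne
    set J₂ := J₀.map (cqEquiv g r₀).toMonoidHom with hJ₂
    have hJ₂m : Moved (img (g * r₀ * g⁻¹) A) J₂ := by rw [← map_img cr₀ hg]; exact hJ₀.map _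
    by_cases e : J₁ = J₂
    · have h1 : RG A (g * r₀ * g⁻¹) J₂ = R.map (MulAut.conj g).toMonoidHom := by
        rw [← hR₀, RG, RG, map_pull_conj hg, map_rPart, map_img cr₀ hg]
      rw [← hR₁, e, h1]
      exact ⟨d, hdR, rfl⟩
    · rw [← hR₁]
      refine pull_mono (hJ₁.inf_le_rPart hJ₂m e) ?_
      have h2 : EG A (g * r₀ * g⁻¹) J₂ = (EG A r₀ J₀).map (MulAut.conj g).toMonoidHom := by
        rw [EG, EG, map_pull_conj hg, map_inf (img r₀ A) J₀ (cqEquiv g r₀).toMonoidHom (cqEquiv g r₀).injective, map_img cr₀ hg]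
      show g * d * g⁻¹ ∈ EG A (g * r₀ * g⁻¹) J₂
      rw [h2]
      exact ⟨d, hd₀, rfl⟩
  -- a translate meeting `R` trivially
  obtain ⟨g, hg, hgR⟩ : ∃ g ∈ normalizer (A : Set G), R ⊓ R.map (MulAut.conj g).toMonoidHom = ⊥ := by
    by_contra hall
    push Not at hall
    set U := closure {y : G | ∃ g ∈ normalizer (A : Set G), g * d * g⁻¹ = y} with hU
    have hUR : U ≤ R := (closure_le R).2 (by rintro _ ⟨g, hg, rfl⟩; exact hmeet g hg (hall g hg))
    have hinv : ∀ g ∈ normalizer (A : Set G), ∀ u ∈ U, g * u * g⁻¹ ∈ U := by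
      intro g hg u hu
      have h1 : U ≤ U.comap (MulAut.conj g).toMonoidHom := (closure_le _).2 (by
        rintro _ ⟨k, hk, rfl⟩
        refine subset_closure ⟨g * k, mul_mem hg hk, ?_⟩
        simp [mul_assoc])
      exact h1 hu
    rcases h.irr U (hUR.trans (pull_le _)) hinv with e | e
    · exact hd1 (mem_bot.1 (e ▸ subset_closure ⟨1, one_mem _, by group⟩))
    · refine hb.1.2 fun v hv => ?_
      obtain ⟨y, hy, rfl⟩ := c.mem_img hv
      exact (Subgroup.mem_inf.1 (c.qq_of_mem (hUR (e.ge hy)))).2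
  set R' := R.map (MulAut.conj g).toMonoidHom with hR'
  have haR : a ∈ R := c.mem_of_qq c.mem (Subgroup.mem_inf.2 ⟨c.qq_mem_img c.mem, mem_centralizer_iff.2 fun l _ => by
    obtain ⟨l, rfl⟩ := qq_surjective a l
    rw [← map_mul, ← map_mul]
    exact congrArg (qq a) (Subtype.ext (mem_centralizer_singleton_iff.1 l.2))⟩)
  have hgi : g⁻¹ * a * g ∈ A := by
    have := conj_mem_of_norm (inv_mem hg) c.mem
    rwa [inv_inv] at this
  obtain ⟨e, he, ρ, hρ, hea⟩ := hspan _ hgi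
  have heR : e ∉ R := fun heR => c.ne (mem_bot.1 (hgR.le ⟨haR, g⁻¹ * a * g, hea ▸ mul_mem heR hρ, by simp [mul_assoc]⟩))
  obtain ⟨P, hP⟩ := exists_pLift hL c hb.1
  obtain ⟨x₀, -, hx₀, e', he', he'R, hx₀e⟩ := exists_transv hL c hb hP he heR
  set x := g * x₀ * g⁻¹ with hxdef
  have hxA : x ∈ normalizer (A : Set G) := mul_mem (mul_mem hg hx₀.norm) (inv_mem hg)
  have hconj : ∀ y, g⁻¹ * y * g ∈ A → y ∈ A := fun y hy => by
    have := conj_mem_of_norm hg hy
    rwa [show g * (g⁻¹ * y * g) * g⁻¹ = y by group] at this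
  have hgA : ∀ y ∈ A, g⁻¹ * y * g ∈ A := fun y hy => by
    have := conj_mem_of_norm (inv_mem hg) hy
    rwa [inv_inv] at this
  have hxR' : ∀ y ∈ A, x * y * x⁻¹ * y⁻¹ ∈ R' := fun y hy =>
    ⟨_, hx₀.comm _ (hgA y hy), by simp [hxdef, mul_assoc]⟩
  have hxa : x ∈ centralizer ({a} : Set G) := by
    have h1 : Commute x₀ (g⁻¹ * a * g) := by
      rw [hea, show e * ρ = e' * ((e⁻¹ * e')⁻¹ * ρ) by group]
      exact Commute.mul_right hx₀e (hx₀.fix _ (mul_mem (inv_mem he'R) hρ))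
    refine mem_centralizer_singleton_iff.2 ?_
    calc x * a = g * (x₀ * (g⁻¹ * a * g)) * g⁻¹ := by rw [hxdef]; group
      _ = a * x := by rw [h1.eq, hxdef]; group
  set u := qq a ⟨x, hxa⟩ with hu
  have huB : u ∈ normalizer (img a A : Set (Cq a)) := c.qq_norm hxa hxA
  have hBu : (img a A).map (MulAut.conj u).toMonoidHom = img a A := Fusion.cj_eq_self huB
  have hcard : Nat.card R * Nat.card R ≤ Nat.card A := by
    refine le_of_eq_of_le (b := Nat.card (R × R')) ?_ (Nat.card_le_card_of_injective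
      (fun p : R × R' => (⟨(p.1 : G) * p.2, mul_mem (pull_le _ p.1.2) (by
        obtain ⟨y, hy, e⟩ := p.2.2
        rw [← e]; exact conj_mem_of_norm hg (pull_le _ hy))⟩ : A)) fun p q e => ?_)
    · rw [Nat.card_prod, hR', Subgroup.card_map_of_injective (MulAut.conj g).injective]
    · have e1 : (p.1 : G) * p.2 = q.1 * q.2 := congrArg Subtype.val e
      have e2 : (q.1 : G)⁻¹ * p.1 = q.2 * (p.2 : G)⁻¹ := by
        rw [eq_mul_inv_iff_mul_eq, mul_assoc, e1, inv_mul_cancel_left]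
      have e3 : (q.1 : G)⁻¹ * p.1 ∈ R ⊓ R' :=
        Subgroup.mem_inf.2 ⟨mul_mem (inv_mem q.1.2) p.1.2, e2 ▸ mul_mem q.2.2 (inv_mem p.2.2)⟩
      rw [hgR, mem_bot, inv_mul_eq_one] at e3
      exact Prod.ext (Subtype.ext e3.symm) (Subtype.ext (mul_left_cancel (e3 ▸ e1)))
  by_cases hfix : L.map (MulAut.conj u).toMonoidHom = L
  · -- the transvection fixes the component
    have huL : u ∈ normalizer (L : Set (Cq a)) := Fusion.mem_normalizer_iff_cj.2 hfix
    have hxr : ∀ r ∈ R, x * r = r * x := by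
      intro r hr
      have hrA : r ∈ A := pull_le _ hr
      have hm : x * r * x⁻¹ ∈ R := by
        refine c.mem_of_qq (conj_mem_of_norm hxA hrA) ?_
        rw [show (⟨x * r * x⁻¹, c.le_cent (conj_mem_of_norm hxA hrA)⟩ : ↥(centralizer ({a} : Set G))) =
          ⟨x, hxa⟩ * ⟨r, c.le_cent hrA⟩ * (⟨x, hxa⟩ : ↥(centralizer ({a} : Set G)))⁻¹ from rfl, map_mul, map_mul, map_inv]
        have h1 := mem_map_of_mem (MulAut.conj u).toMonoidHom (c.qq_of_mem hr)
        rw [map_rPart, hBu, hfix] at h1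
        exact h1
      have h2 : x * r * x⁻¹ * r⁻¹ ∈ R ⊓ R' := Subgroup.mem_inf.2 ⟨mul_mem hm (inv_mem hr), hxR' r hrA⟩
      rw [hgR, mem_bot, mul_inv_eq_one] at h2
      exact mul_inv_eq_iff_eq_mul.1 h2
    have hall : ∀ y ∈ A, x * y = y * x := by
      intro y hy
      have h1 := ((c.concl hL).bad L hb.1 hb.2).rigid u huB huL (mem_centralizer_iff.2 fun v hv => by
          obtain ⟨w, hw, rfl⟩ := c.mem_img hv
          rw [hu, ← map_mul, ← map_mul, ← map_mul]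
          refine congrArg (qq a) (Subtype.ext ?_)
          have h3 := hx₀.sq _ (hgA w hw)
          show w * (x * x) = x * x * w
          calc w * (x * x) = g * (g⁻¹ * w * g * (x₀ * x₀)) * g⁻¹ := by rw [hxdef]; group
            _ = x * x * w := by rw [← h3, hxdef]; group)
        (fun v hv => by
          obtain ⟨r, hr, hrR, rfl⟩ := c.exists_pull hv hv.1
          rw [hu, ← map_mul, ← map_mul]
          exact congrArg (qq a) (Subtype.ext (hxr r hrR))) _ (c.qq_mem_img hy)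
      have hm : x * y * x⁻¹ * y⁻¹ ∈ A := mul_mem (conj_mem_of_norm hxA hy) (inv_mem hy)
      have h2 : x * y * x⁻¹ * y⁻¹ ∈ R ⊓ R' := Subgroup.mem_inf.2 ⟨c.mem_of_qq hm (by
        rw [show (⟨x * y * x⁻¹ * y⁻¹, c.le_cent hm⟩ : ↥(centralizer ({a} : Set G))) =
          ⁅(⟨x, hxa⟩ : ↥(centralizer ({a} : Set G))), ⟨y, c.le_cent hy⟩⁆ from rfl, map_commutatorElement]
        exact h1), hxR' y hy⟩
      rw [hgR, mem_bot, mul_inv_eq_one] at h2
      exact mul_inv_eq_iff_eq_mul.1 h2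
    obtain ⟨b, hbA, hbx⟩ := hx₀.ne
    refine hbx ?_
    have h3 := hall _ (conj_mem_of_norm hg hbA)
    rw [hxdef] at h3
    calc x₀ * b = g⁻¹ * (g * x₀ * g⁻¹ * (g * b * g⁻¹)) * g := by group
      _ = b * x₀ := by rw [h3]; group
  · -- otherwise `E` would be too large
    have hm' := (c.concl hL).perm L hb.1 u
    have hE : Nat.card (EG A a L) ≤ Nat.card R := by
      refine (Subgroup.card_le_of_le ?_).trans_eq (Subgroup.card_map_of_injective (K := R) (f := (MulAut.conj x).toMonoidHom) (MulAut.conj x).injective)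
      intro y hy
      have h1 := hm'.inf_le_rPart hb.1 hfix (c.qq_of_mem hy)
      have hr' : rPart (img a A) (L.map (MulAut.conj u).toMonoidHom) =
          (rPart (img a A) L).map (MulAut.conj u).toMonoidHom := by rw [map_rPart, hBu]
      rw [hr'] at h1
      obtain ⟨v, hv, e⟩ := h1
      obtain ⟨r, hr, hrR, rfl⟩ := c.exists_pull hv hv.1
      refine ⟨r, hrR, c.qq_inj (conj_mem_of_norm hxA hr) (pull_le _ hy) ?_⟩
      rw [← e]
      show qq a (⟨x, hxa⟩ * ⟨r, c.le_cent hr⟩ * (⟨x, hxa⟩ : ↥(centralizer ({a} : Set G)))⁻¹) = _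
      rw [map_mul, map_mul, map_inv]
      rfl
    haveI : Fintype (EG A a L × R) := Fintype.ofFinite _
    haveI : Fintype A := Fintype.ofFinite _
    let f : EG A a L × R → A := fun p => ⟨(p.1 : G) * p.2, mul_mem (pull_le _ p.1.2) (pull_le _ p.2.2)⟩
    have hsur : Function.Surjective f := fun y => by
      obtain ⟨e, he, ρ, hρ, e'⟩ := hspan y y.2
      exact ⟨(⟨e, he⟩, ⟨ρ, hρ⟩), Subtype.ext e'.symm⟩
    have hlt : Fintype.card A < Fintype.card (EG A a L × R) := Fintype.card_lt_of_surjective_not_injective f hsur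
      fun hinj => hd1 (congrArg (fun p : EG A a L × R => (p.1 : G))
        (hinj (a₁ := (⟨d, hdE⟩, ⟨d⁻¹, inv_mem hdR⟩)) (a₂ := 1) (Subtype.ext (by simp [f]))))
    rw [← Nat.card_eq_fintype_card, ← Nat.card_eq_fintype_card, Nat.card_prod] at hlt
    have := Nat.mul_le_mul_right (Nat.card R) hE
    omega

end Cfsg.Agent.Goldschmidt
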